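import Cfsg.Agent.Lib.DPiHomogeneous.Fusion
import Cfsg.Agent.Lib.ClassPiCount

/-!
Fusion of elements in a dominating `π`-subgroup of a `π`-homogeneous group.
-/

set_option autoImplicit false
set_option linter.style.haveILetI false

namespace CfsgLib.DPiHomogeneous

open Cfsg CfsgLib.ClassPiCount

universe u

theorem hom_subgroup {G : Type u} [Group G] {π : Set ℕ} (C : Subgroup G) (h : Hom π G) : Hom π C := by
  intro Q hQ hQπ q hq hd
  refine h (Q.map C.subtype) (fun hb => hQ ((Q.map_eq_bot_iff_of_injective C.subtype_injective).1 hb))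
    (fun r hr hd' => hQπ r hr (by rwa [Subgroup.card_map_of_injective C.subtype_injective] at hd')) q hq
    (hd.trans ?_)
  set Ce := Subgroup.centralizer ((Q.map C.subtype : Subgroup G) : Set G)
  set N := Subgroup.normalizer ((Q.map C.subtype : Subgroup G) : Set G)
  have hce : Subgroup.centralizer (Q : Set C) = Ce.comap C.subtype := by
    ext x
    simp only [Subgroup.mem_comap, Subgroup.mem_centralizer_iff, Ce]
    constructor
    · rintro hx _ ⟨y, hy, rfl⟩
      exact congrArg Subtype.val (hx y hy)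
    · exact fun hx y hy => Subtype.ext (hx _ ⟨y, hy, rfl⟩)
  have hN : Subgroup.normalizer (Q : Set C) = N.comap C.subtype := by
    ext x
    simp only [Subgroup.mem_comap, Subgroup.mem_normalizer_iff, N]
    constructor
    · intro hx y
      constructor
      · rintro ⟨y', hy', rfl⟩
        exact ⟨_, (hx y').1 hy', by simp⟩
      · rintro ⟨z, hz, hzy⟩
        have : y = ((x⁻¹ * z * x : C) : G) := by
          simp only [Subgroup.coe_subtype] at hzy
          push_cast
          rw [hzy]; group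
        exact ⟨x⁻¹ * z * x, (hx _).2 (by simpa [mul_assoc] using hz), this.symm⟩
    · intro hx y
      constructor
      · intro hy
        obtain ⟨z, hz, hzy⟩ := (hx y).1 ⟨y, hy, rfl⟩
        have : x * y * x⁻¹ = z := Subtype.ext (by simpa using hzy.symm)
        rwa [this]
      · intro hy
        obtain ⟨z, hz, hzy⟩ := (hx y).2 ⟨_, hy, by simp⟩
        have : y = z := Subtype.ext (by simpa using hzy.symm)
        rwa [this]
  rw [hce, Subgroup.relIndex_comap, hN, ← Subgroup.subgroupOf, Subgroup.subgroupOf_map_subtype,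
    ← Subgroup.relIndex_subgroupOf (inf_le_left : N ⊓ C ≤ N)]
  haveI := centralizer_subgroupOf_normal (Q.map C.subtype)
  exact Subgroup.relIndex_dvd_index_of_normal _ _

/-- Elements of `H` that are conjugate in `G` are conjugate in `H`. -/
theorem ctrl_element_aux : ∀ (n : ℕ) (G : Type u) [Group G] [Finite G], Nat.card G = n →
    ∀ (π : Set ℕ) (H : Subgroup G), Hom π G → Dom π H → ∀ x ∈ H, ∀ g : G, g * x * g⁻¹ ∈ H →
      ∃ h ∈ H, h * x * h⁻¹ = g * x * g⁻¹ := by
  intro n
  induction n using Nat.strong_induction_on with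
  | _ n IH =>
  intro G _ _ hn π H hhom hD x
  induction hm : orderOf x using Nat.strong_induction_on generalizing x with
  | _ m ihx =>
  intro hx g hg
  by_cases hx1 : x = 1
  · exact ⟨1, H.one_mem, by simp [hx1]⟩
  have hne : orderOf x ≠ 1 := fun h => hx1 (orderOf_eq_one_iff.1 h)
  set p := (orderOf x).minFac with hp_def
  have hpp : p.Prime := Nat.minFac_prime hne
  haveI := Fact.mk hpp
  have hp : p ∈ π := hD.1 p hpp ((Nat.minFac_dvd _).trans
    ((Subgroup.orderOf_mk (H := H) x hx).symm.dvd.trans (orderOf_dvd_natCard _)))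
  obtain ⟨i, j, hi, hj, hij⟩ := exists_parts {p} x
  set a := x ^ i with ha_def
  have haH : a ∈ H := H.pow_mem hx i
  have hap : IsPGroup p (Subgroup.zpowers a) := by
    refine IsPGroup.of_card (n := (orderOf a).primeFactorsList.length) ?_
    rw [Nat.card_zpowers]
    exact Nat.eq_prime_pow_of_unique_prime_dvd (orderOf_pos a).ne' fun hd hq => hi _ hd hq
  have hjlt : orderOf (x ^ j) < m := by
    subst hm
    refine lt_of_le_of_ne (Nat.le_of_dvd (orderOf_pos x) (orderOf_pow_dvd j)) fun he => ?_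
    exact hj p hpp (he ▸ Nat.minFac_dvd _) rfl
  obtain ⟨h1, hh1, he1⟩ := ctrl_pGroup hhom hD hp _ (Subgroup.zpowers a) hap (Subgroup.zpowers_le.2 haH) rfl g
    (by
      intro r hr
      obtain ⟨z, rfl⟩ := Subgroup.mem_zpowers_iff.1 hr
      rw [← conj_zpow, ha_def, ← conj_pow]
      exact H.zpow_mem (H.pow_mem hg i) z)
  set C := Subgroup.centralizer (Subgroup.zpowers a : Set G) with hC_def
  have hg' : h1⁻¹ * g ∈ C := by
    refine Subgroup.mem_centralizer_iff.2 fun r hr => ?_
    calc r * (h1⁻¹ * g) = h1⁻¹ * (h1 * r * h1⁻¹) * g := by group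
      _ = h1⁻¹ * g * r := by rw [he1 r hr]; group
  have hgH : h1⁻¹ * g * x * (h1⁻¹ * g)⁻¹ ∈ H := by
    have := H.mul_mem (H.mul_mem (H.inv_mem hh1) hg) hh1
    simpa [mul_assoc] using this
  suffices hs : ∃ h ∈ H, h * x * h⁻¹ = h1⁻¹ * g * x * (h1⁻¹ * g)⁻¹ by
    obtain ⟨h, hh, he⟩ := hs
    refine ⟨h1 * h, H.mul_mem hh1 hh, ?_⟩
    calc h1 * h * x * (h1 * h)⁻¹ = h1 * (h * x * h⁻¹) * h1⁻¹ := by group
      _ = g * x * g⁻¹ := by rw [he]; group
  generalize h1⁻¹ * g = c at hg' hgH ⊢
  have hxC : x ∈ C := by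
    refine Subgroup.mem_centralizer_iff.2 fun r hr => ?_
    obtain ⟨z, rfl⟩ := Subgroup.mem_zpowers_iff.1 hr
    exact ((Commute.refl x).pow_left i).zpow_left z
  by_cases hC : C = ⊤
  · have hca : ∀ y : G, y * a * y⁻¹ = a := fun y => by
      have := Subgroup.mem_centralizer_iff.1 (hC.symm ▸ Subgroup.mem_top y : y ∈ C) a (Subgroup.mem_zpowers a)
      rw [← this]; group
    obtain ⟨h, hh, he⟩ := ihx _ hjlt (x ^ j) rfl (H.pow_mem hx j) c (by
      rw [← conj_pow]; exact H.pow_mem hgH j)
    refine ⟨h, hh, ?_⟩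
    calc h * x * h⁻¹ = (h * a * h⁻¹) * (h * x ^ j * h⁻¹) := by conv_lhs => rw [← hij]
                                                               group
      _ = (c * a * c⁻¹) * (c * x ^ j * c⁻¹) := by rw [he, hca, hca]
      _ = c * x * c⁻¹ := by conv_rhs => rw [← hij]
                            group
  · have hlt : Nat.card C < n := by
      subst hn
      exact lt_of_le_of_ne (Subgroup.card_le_card_group C) fun he => hC (Subgroup.card_eq_iff_eq_top C |>.1 he)
    have hD' : Dom π (H.subgroupOf C) := by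
      refine ⟨fun q hq hd => hD.1 q hq (hd.trans (Subgroup.card_comap_dvd_of_injective H C.subtype
        Subtype.val_injective)), fun U hU => ?_⟩
      set Z := (Subgroup.zpowers a).subgroupOf C with hZ
      haveI : Z.Normal := by
        refine ⟨fun z hz y => ?_⟩
        rw [hZ, Subgroup.mem_subgroupOf] at hz ⊢
        have := Subgroup.mem_centralizer_iff.1 y.2 _ hz
        push_cast
        rw [← this, mul_inv_cancel_right]
        exact hz
      have hUZ := isPiSubgroup_sup (π := π) hU (R := Z) (isPi_of_pGroup hp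
        (hap.comap_of_injective C.subtype Subtype.val_injective))
      obtain ⟨m', hm'⟩ := hD.2 ((U ⊔ Z).map C.subtype) (fun q hq hd =>
        hUZ q hq (by rwa [Subgroup.card_map_of_injective C.subtype_injective] at hd))
      have haC : a ∈ C := C.pow_mem hxC i
      obtain ⟨h, hh, he⟩ := ctrl_pGroup hhom hD hp _ (Subgroup.zpowers a) hap (Subgroup.zpowers_le.2 haH) rfl m'
        (fun r hr => hm' r ⟨⟨r, Subgroup.zpowers_le.2 haC hr⟩, Subgroup.mem_sup_right hr, rfl⟩)
      have hmC : h⁻¹ * m' ∈ C := by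
        refine Subgroup.mem_centralizer_iff.2 fun r hr => ?_
        calc r * (h⁻¹ * m') = h⁻¹ * (h * r * h⁻¹) * m' := by group
          _ = h⁻¹ * m' * r := by rw [he r hr]; group
      refine ⟨⟨h⁻¹ * m', hmC⟩, fun u hu => ?_⟩
      have := H.mul_mem (H.mul_mem (H.inv_mem hh) (hm' u ⟨u, Subgroup.mem_sup_left hu, rfl⟩)) hh
      simpa [Subgroup.mem_subgroupOf, mul_assoc] using this
    obtain ⟨h, hh, he⟩ := IH _ hlt C rfl π (H.subgroupOf C) (hom_subgroup C hhom) hD' ⟨x, hxC⟩ hx ⟨c, hg'⟩ hgH
    exact ⟨h, hh, by simpa using congrArg Subtype.val he⟩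

theorem ctrl_element {G : Type u} [Group G] [Finite G] {π : Set ℕ} {H : Subgroup G} (hhom : Hom π G)
    (hD : Dom π H) {x : G} (hx : x ∈ H) {y : G} (hy : y ∈ H) (hxy : IsConj x y) :
    ∃ h ∈ H, h * x * h⁻¹ = y := by
  obtain ⟨g, rfl⟩ := isConj_iff.1 hxy
  exact ctrl_element_aux _ G rfl π H hhom hD x hx g hy

end CfsgLib.DPiHomogeneous
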