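import Mathlib
import Cfsg.Prelude.Def_HallClasses

/-!
In a `π`-homogeneous group with a `π`-subgroup containing a conjugate of every `π`-subgroup, that
subgroup controls the fusion of its elements.
-/

set_option autoImplicit false
set_option linter.style.haveILetI false

namespace CfsgLib.DPiHomogeneous

open Cfsg

universe u

variable {G : Type u} [Group G]

/-- `π`-homogeneity. -/
def Hom (π : Set ℕ) (G : Type u) [Group G] : Prop :=
  ∀ H : Subgroup G, H ≠ ⊥ → (∀ p : ℕ, p.Prime → p ∣ Nat.card ↥H → p ∈ π) →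
    ∀ p : ℕ, p.Prime → p ∣ (Subgroup.centralizer (H : Set G)).relIndex (Subgroup.normalizer (H : Set G)) → p ∈ π

/-- `H` is a `π`-subgroup with a conjugate of every `π`-subgroup inside it. -/
def Dom (π : Set ℕ) (H : Subgroup G) : Prop :=
  IsPiSubgroup π H ∧ ∀ U : Subgroup G, IsPiSubgroup π U → ∃ g : G, ∀ u ∈ U, g * u * g⁻¹ ∈ H

theorem centralizer_subgroupOf_normal (R : Subgroup G) :
    ((Subgroup.centralizer (R : Set G)).subgroupOf (Subgroup.normalizer (R : Set G))).Normal := by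
  refine ⟨fun c hc n => ?_⟩
  rw [Subgroup.mem_subgroupOf] at hc ⊢
  refine Subgroup.mem_centralizer_iff.2 fun r hr => ?_
  have h1 : (n : G)⁻¹ * r * n ∈ R := (Subgroup.mem_normalizer_iff''.1 n.2 r).1 hr
  have h2 := Subgroup.mem_centralizer_iff.1 hc _ h1
  push_cast
  calc r * ((n : G) * c * (n : G)⁻¹) = (n : G) * ((n : G)⁻¹ * r * n * c) * (n : G)⁻¹ := by group
    _ = (n : G) * c * (n : G)⁻¹ * r := by rw [h2]; group

/-- A normal subgroup with `π`-index has a `π`-supplement. -/
theorem exists_supplement [Finite G] {π : Set ℕ} (C : Subgroup G) [C.Normal]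
    (hC : ∀ q : ℕ, q.Prime → q ∣ C.index → q ∈ π) : ∃ U : Subgroup G, U ⊔ C = ⊤ ∧ IsPiSubgroup π U := by
  classical
  have hex : ∃ n, ∃ U : Subgroup G, U ⊔ C = ⊤ ∧ Nat.card U = n := ⟨_, ⊤, top_sup_eq _, rfl⟩
  obtain ⟨U, hU, hcard⟩ := Nat.find_spec hex
  have hmin : ∀ K : Subgroup G, K ≤ U → K ⊔ C = ⊤ → K = U := fun K hle hK =>
    Subgroup.eq_of_le_of_card_ge hle (hcard ▸ Nat.find_min' hex ⟨K, hK, rfl⟩)
  refine ⟨U, hU, fun q hq hqU => ?_⟩
  by_contra hqπ
  haveI := Fact.mk hq
  set D := C.subgroupOf U with hD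
  have hDi : ¬ q ∣ D.index := fun hd => hqπ (hC q hq (hd.trans (by
    show C.relIndex U ∣ C.index
    exact Subgroup.relIndex_dvd_index_of_normal C U)))
  obtain ⟨Q⟩ : Nonempty (Sylow q U) := inferInstance
  have hQD : (Q : Subgroup U) ≤ D := by
    intro x hx
    rw [← QuotientGroup.eq_one_iff]
    obtain ⟨k, hk⟩ := IsPGroup.iff_orderOf.1 Q.2 ⟨x, hx⟩
    rw [← orderOf_eq_one_iff]
    refine Nat.eq_one_of_dvd_coprimes ((hq.coprime_iff_not_dvd.2 hDi).pow_left k) ?_
      (by rw [Subgroup.index_eq_card]; exact orderOf_dvd_natCard _)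
    rw [← hk, Subgroup.orderOf_mk]
    exact orderOf_map_dvd (QuotientGroup.mk' D) x
  let Q' : Sylow q D := Q.subtype hQD
  have hfr := Sylow.normalizer_sup_eq_top' Q hQD
  have key : ∀ K : Subgroup U, K ⊔ D = ⊤ → K = ⊤ := by
    intro K hK
    have h1 : K.map U.subtype ⊔ C = ⊤ := by
      rw [eq_top_iff, ← hU]
      refine sup_le ?_ le_sup_right
      have := congrArg (Subgroup.map U.subtype) hK
      rw [Subgroup.map_sup, ← MonoidHom.range_eq_map, Subgroup.range_subtype] at this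
      refine this.symm.le.trans ?_
      exact sup_le_sup_left (by rw [hD, Subgroup.subgroupOf_map_subtype]; exact inf_le_left) _
    have h2 := hmin _ (Subgroup.map_subtype_le K) h1
    exact Subgroup.map_injective U.subtype_injective (h2.trans (by
      rw [← MonoidHom.range_eq_map, Subgroup.range_subtype]))
  haveI : (Q : Subgroup U).Normal := Subgroup.normalizer_eq_top_iff.1 (key _ hfr)
  obtain ⟨K, hK⟩ := Subgroup.exists_left_complement'_of_coprime (N := (Q : Subgroup U)) Q.card_coprime_index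
  have hKtop := key K (eq_top_iff.2 (hK.sup_eq_top ▸ sup_le_sup_left hQD _))
  have hdisj := hK.disjoint
  rw [hKtop, top_disjoint] at hdisj
  exact Q.ne_bot_of_dvd_card hqU hdisj

/-- A subgroup above a normal `π`-subgroup by a `π`-subgroup is a `π`-group. -/
theorem isPiSubgroup_sup [Finite G] {π : Set ℕ} {U R : Subgroup G} [R.Normal] (hU : IsPiSubgroup π U)
    (hR : IsPiSubgroup π R) : IsPiSubgroup π (U ⊔ R) := by
  intro q hq hd
  rw [← Subgroup.card_mul_index (R.subgroupOf (U ⊔ R)),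
    Nat.card_congr (Subgroup.subgroupOfEquivOfLe le_sup_right).toEquiv] at hd
  rcases hq.dvd_mul.1 hd with hd | hd
  · exact hR q hq hd
  · refine hU q hq (hd.trans ?_)
    show R.relIndex (U ⊔ R) ∣ _
    rw [Subgroup.relIndex_sup_right]
    exact Subgroup.relIndex_dvd_card R U

/-- Conjugation by `g` on `R` is realised inside `H`. -/
def Ctrl (H R : Subgroup G) (g : G) : Prop := ∃ h ∈ H, ∀ r ∈ R, h * r * h⁻¹ = g * r * g⁻¹

/-- The elements of the normalizer that are realised inside `H`. -/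
theorem ctrl_of_mem_sup {H R : Subgroup G} {n : Subgroup.normalizer (R : Set G)}
    (hn : n ∈ (Subgroup.centralizer (R : Set G)).subgroupOf (Subgroup.normalizer (R : Set G)) ⊔
      H.subgroupOf (Subgroup.normalizer (R : Set G))) : Ctrl H R (n : G) := by
  haveI := centralizer_subgroupOf_normal R
  obtain ⟨c, hc, h, hh, rfl⟩ := Subgroup.mem_sup_of_normal_left.1 hn
  refine ⟨h, hh, fun r hr => ?_⟩
  have h1 : (h : G) * r * (h : G)⁻¹ ∈ R := (Subgroup.mem_normalizer_iff.1 h.2 r).1 hr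
  have h2 := Subgroup.mem_centralizer_iff.1 (Subgroup.mem_subgroupOf.1 hc) _ h1
  push_cast
  calc (h : G) * r * (h : G)⁻¹ = ((h : G) * r * (h : G)⁻¹ * c) * (c : G)⁻¹ := by group
    _ = _ := by rw [h2]; group

/-- Conjugates of a supplement to `C` cover as well. -/
theorem top_of_supplement {H : Subgroup G} (C : Subgroup G) [C.Normal] {U : Subgroup G} (hU : U ⊔ C = ⊤) (n : G)
    (h : ∀ u ∈ U, n * u * n⁻¹ ∈ C ⊔ H) : C ⊔ H = ⊤ := by
  rw [eq_top_iff]
  intro x _
  have h1 : U ⊔ C ≤ (C ⊔ H).comap (MulAut.conj n).toMonoidHom := sup_le (fun u hu => h u hu)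
    fun c hc => Subgroup.mem_sup_left (‹C.Normal›.conj_mem c hc n)
  have h2 := h1 (hU ▸ Subgroup.mem_top (n⁻¹ * x * n))
  simpa [Subgroup.mem_comap, MulAut.conj_apply, mul_assoc] using h2

section

variable [Finite G] {π : Set ℕ} {p : ℕ} [Fact p.Prime]

theorem isPi_of_pGroup {H : Type u} [Group H] [Finite H] {R : Subgroup H} (hp : p ∈ π) (hR : IsPGroup p R) :
    IsPiSubgroup π R := by
  intro q hq hd
  obtain ⟨k, hk⟩ := IsPGroup.iff_card.1 hR
  rw [hk] at hd
  rw [(Nat.prime_dvd_prime_iff_eq hq Fact.out).1 (hq.dvd_of_dvd_pow hd)]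
  exact hp

theorem not_dvd_index {H : Subgroup G} (hD : Dom π H) (hp : p ∈ π) : ¬ p ∣ H.index := by
  obtain ⟨S⟩ : Nonempty (Sylow p G) := inferInstance
  obtain ⟨g, hg⟩ := hD.2 S (isPi_of_pGroup hp S.2)
  have h1 : (S : Subgroup G).map (MulAut.conj g).toMonoidHom ≤ H := by
    rintro _ ⟨u, hu, rfl⟩; exact hg u hu
  intro hd
  refine S.not_dvd_index ?_
  have h2 := hd.trans (Subgroup.index_dvd_of_le h1)
  rwa [Subgroup.index_map_of_bijective (MulAut.conj g).bijective] at h2

theorem supplement_normalizer (hhom : Hom π G) (hp : p ∈ π) {R : Subgroup G} (hR : IsPGroup p R) :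
    ∃ U : Subgroup (Subgroup.normalizer (R : Set G)),
      U ⊔ (Subgroup.centralizer (R : Set G)).subgroupOf (Subgroup.normalizer (R : Set G)) = ⊤ ∧
      IsPiSubgroup π U ∧ R.subgroupOf (Subgroup.normalizer (R : Set G)) ≤ U := by
  haveI := centralizer_subgroupOf_normal R
  haveI : (R.subgroupOf (Subgroup.normalizer (R : Set G))).Normal := Subgroup.normal_in_normalizer
  obtain ⟨U, hU1, hU2⟩ := exists_supplement (π := π)
    ((Subgroup.centralizer (R : Set G)).subgroupOf (Subgroup.normalizer (R : Set G))) fun q hq hd => by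
      by_cases hbot : R = ⊥
      · exfalso
        subst hbot
        have : (Subgroup.centralizer ((⊥ : Subgroup G) : Set G)).subgroupOf
            (Subgroup.normalizer ((⊥ : Subgroup G) : Set G)) = ⊤ := eq_top_iff.2 fun x _ =>
          Subgroup.mem_subgroupOf.2 (Subgroup.mem_centralizer_iff.2 fun r hr => by
            rw [Subgroup.mem_bot.1 hr, one_mul, mul_one])
        rw [this, Subgroup.index_top] at hd
        exact hq.ne_one (Nat.dvd_one.1 hd)
      · exact hhom R hbot (isPi_of_pGroup hp hR) q hq hd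
  refine ⟨U ⊔ R.subgroupOf _, ?_, isPiSubgroup_sup hU2 (isPi_of_pGroup hp ?_), le_sup_right⟩
  · rw [eq_top_iff, ← hU1]
    exact sup_le_sup_right le_sup_left _
  · exact hR.comap_of_injective (Subgroup.normalizer (R : Set G)).subtype Subtype.val_injective

/-- A conjugate of a supplement lands in `H`, realising all of the normalizer. -/
theorem covered {H R : Subgroup G} {U : Subgroup (Subgroup.normalizer (R : Set G))}
    (hU : U ⊔ (Subgroup.centralizer (R : Set G)).subgroupOf (Subgroup.normalizer (R : Set G)) = ⊤)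
    (c : Subgroup.normalizer (R : Set G)) (hc : ∀ u ∈ U, (c : G) * u * (c : G)⁻¹ ∈ H)
    (n : Subgroup.normalizer (R : Set G)) : Ctrl H R (n : G) := by
  haveI := centralizer_subgroupOf_normal R
  refine ctrl_of_mem_sup ?_
  have := top_of_supplement (H := H.subgroupOf (Subgroup.normalizer (R : Set G))) _ hU c fun u hu =>
    Subgroup.mem_sup_right (Subgroup.mem_subgroupOf.2 (by push_cast; exact hc u hu))
  rw [this]
  exact Subgroup.mem_top n

/-- Fusion of `p`-subgroups of `H` is realised inside `H`. -/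
theorem ctrl_pGroup (hhom : Hom π G) {H : Subgroup G} (hD : Dom π H) (hp : p ∈ π) :
    ∀ (m : ℕ) (R : Subgroup G), IsPGroup p R → R ≤ H → Nat.card G - Nat.card R = m →
      ∀ g : G, (∀ r ∈ R, g * r * g⁻¹ ∈ H) → Ctrl H R g := by
  intro m
  induction m using Nat.strong_induction_on with
  | _ m ih =>
  intro R hR hRH hm
  have hpp := (Fact.out : p.Prime)
  have IH : ∀ W : Subgroup G, IsPGroup p W → W ≤ H → Nat.card R < Nat.card W →
      ∀ g : G, (∀ r ∈ W, g * r * g⁻¹ ∈ H) → Ctrl H W g := fun W hW hWH hlt => by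
    have h1 := Subgroup.card_le_card_group W
    exact ih _ (by omega) W hW hWH rfl
  obtain ⟨k, hk⟩ := IsPGroup.iff_card.1 hR
  by_cases hmax : ¬ p ^ (k + 1) ∣ Nat.card G
  · -- `R` is a Sylow subgroup
    have hsyl : ∀ j : G, (∀ r ∈ R, j * r * j⁻¹ ∈ H) → ∃ h ∈ H, h * j ∈ Subgroup.normalizer (R : Set G) := by
      intro j hj
      have hp' : ∀ {T : Subgroup G}, T ≤ H → Nat.card T = p ^ k → ¬ p ∣ (T.subgroupOf H).index := by
        intro T hT hc hd
        apply hmax
        rw [← Subgroup.card_mul_index H, ← Subgroup.card_mul_index (T.subgroupOf H),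
          Nat.card_congr (Subgroup.subgroupOfEquivOfLe hT).toEquiv, hc, pow_succ]
        exact (Nat.mul_dvd_mul_left _ hd).trans (dvd_mul_right _ _)
      set T := R.map (MulAut.conj j).toMonoidHom with hT
      have hTH : T ≤ H := by rintro _ ⟨r, hr, rfl⟩; exact hj r hr
      let S1 : Sylow p H := (hR.comap_of_injective H.subtype Subtype.val_injective).toSylow (hp' hRH hk)
      let S2 : Sylow p H := ((hR.map _).comap_of_injective H.subtype Subtype.val_injective).toSylow
        (hp' hTH (by rw [Subgroup.card_map_of_injective (MulAut.conj j).injective, hk]))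
      obtain ⟨h, hh⟩ := MulAction.exists_smul_eq H S2 S1
      refine ⟨h, h.2, ?_⟩
      refine Subgroup.mem_normalizer_fintype fun r hr => ?_
      have h1 : (⟨j * r * j⁻¹, hj r hr⟩ : H) ∈ (S2 : Subgroup H) := ⟨r, hr, rfl⟩
      have h2 := Subgroup.smul_mem_pointwise_smul _ (MulAut.conj h) _ h1
      rw [← Sylow.coe_subgroup_smul] at h2
      have h3 : MulAut.conj h • (⟨j * r * j⁻¹, hj r hr⟩ : H) ∈ (S1 : Subgroup H) := by
        rw [← hh]; exact h2
      have h4 : (h : G) * (j * r * j⁻¹) * (h : G)⁻¹ ∈ R := h3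
      simpa [mul_assoc] using h4
    obtain ⟨U, hU, hUpi, hRU⟩ := supplement_normalizer hhom hp hR
    have hUG : IsPiSubgroup π (U.map (Subgroup.normalizer (R : Set G)).subtype) := by
      intro q hq hd
      rw [Subgroup.card_map_of_injective Subtype.val_injective] at hd
      exact hUpi q hq hd
    obtain ⟨j, hj⟩ := hD.2 _ hUG
    have hjR : ∀ r ∈ R, j * r * j⁻¹ ∈ H := fun r hr =>
      hj r ⟨⟨r, Subgroup.le_normalizer hr⟩, hRU hr, rfl⟩
    obtain ⟨h, hh, hhj⟩ := hsyl j hjR
    intro g hg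
    obtain ⟨h', hh', hhg⟩ := hsyl g hg
    obtain ⟨h2, hh2, he⟩ := covered hU ⟨h * j, hhj⟩ (H := H) (fun u hu => by
      have := H.mul_mem (H.mul_mem hh (hj u ⟨u, hu, rfl⟩)) (H.inv_mem hh)
      simpa [mul_assoc] using this) ⟨h' * g, hhg⟩
    refine ⟨h'⁻¹ * h2, H.mul_mem (H.inv_mem hh') hh2, fun r hr => ?_⟩
    calc h'⁻¹ * h2 * r * (h'⁻¹ * h2)⁻¹ = h'⁻¹ * (h2 * r * h2⁻¹) * h' := by group
      _ = g * r * g⁻¹ := by rw [he r hr]; group
  push Not at hmax
  -- a Sylow subgroup of some normalizer lies in `H`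
  set N := Subgroup.normalizer (R : Set G) with hN
  obtain ⟨V₀⟩ : Nonempty (Sylow p N) := inferInstance
  obtain ⟨k₀, hk₀⟩ := hD.2 _ (isPi_of_pGroup hp (V₀.2.map N.subtype))
  have hRV₀ : R.subgroupOf N ≤ V₀ := by
    haveI : (R.subgroupOf N).Normal := Subgroup.normal_in_normalizer
    exact IsPGroup.le_sylow_of_normal (N := R.subgroupOf N) (hR.comap_of_injective N.subtype Subtype.val_injective) V₀
  set R₂ := R.map (MulAut.conj k₀).toMonoidHom with hR₂
  have hR₂p : IsPGroup p R₂ := hR.map _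
  have hR₂card : Nat.card R₂ = Nat.card R := Subgroup.card_map_of_injective (MulAut.conj k₀).injective
  have hR₂H : R₂ ≤ H := by
    rintro _ ⟨r, hr, rfl⟩; exact hk₀ r ⟨⟨r, Subgroup.le_normalizer hr⟩, hRV₀ hr, rfl⟩
  set N₂ := Subgroup.normalizer (R₂ : Set G) with hN₂
  have hN₂eq : N.map (MulAut.conj k₀).toMonoidHom = N₂ := Subgroup.map_equiv_normalizer_eq R (MulAut.conj k₀)
  set W₂ := ((V₀ : Subgroup N).map N.subtype).map (MulAut.conj k₀).toMonoidHom with hW₂
  have hW₂H : W₂ ≤ H := by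
    rintro _ ⟨v, hv, rfl⟩; exact hk₀ v hv
  have hW₂N : W₂ ≤ N₂ := hN₂eq ▸ Subgroup.map_mono (Subgroup.map_subtype_le _)
  have hW₂card : Nat.card W₂ = Nat.card (V₀ : Subgroup N) := by
    rw [hW₂, Subgroup.card_map_of_injective (MulAut.conj k₀).injective,
      Subgroup.card_map_of_injective N.subtype_injective]
  have hW₂p : IsPGroup p W₂ := (V₀.2.map _).map _
  let V : Sylow p N₂ := (hW₂p.comap_of_injective N₂.subtype Subtype.val_injective).toSylow (by
    intro hd
    apply V₀.not_dvd_index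
    have h1 : Nat.card N₂ = Nat.card N := by
      rw [← hN₂eq, Subgroup.card_map_of_injective (MulAut.conj k₀).injective]
    have h2 := (Subgroup.card_mul_index (W₂.subgroupOf N₂)).trans (h1.trans (Subgroup.card_mul_index (V₀ : Subgroup N)).symm)
    rw [Nat.card_congr (Subgroup.subgroupOfEquivOfLe hW₂N).toEquiv, hW₂card] at h2
    exact (Nat.eq_of_mul_eq_mul_left Nat.card_pos h2) ▸ hd)
  have hVH : ∀ v : N₂, v ∈ (V : Subgroup N₂) → (v : G) ∈ H := fun v hv => hW₂H hv
  have hR₂V : R₂.subgroupOf N₂ ≤ V := by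
    haveI : (R₂.subgroupOf N₂).Normal := Subgroup.normal_in_normalizer
    exact IsPGroup.le_sylow_of_normal (N := R₂.subgroupOf N₂) (hR₂p.comap_of_injective N₂.subtype Subtype.val_injective) V
  have hVgt : Nat.card R < Nat.card (V : Subgroup N₂) := by
    have h1 := Sylow.prime_dvd_card_quotient_normalizer hmax (hR₂card.trans hk)
    have h2 : p ^ (k + 1) ∣ Nat.card N₂ := by
      rw [Subgroup.card_eq_card_quotient_mul_card_subgroup (R₂.subgroupOf N₂),
        Nat.card_congr (Subgroup.subgroupOfEquivOfLe Subgroup.le_normalizer).toEquiv, hR₂card, hk, pow_succ']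
      exact Nat.mul_dvd_mul_right h1 _
    rw [V.card_eq_multiplicity, hk]
    exact Nat.pow_lt_pow_right hpp.one_lt ((hpp.pow_dvd_iff_le_factorization Nat.card_pos.ne').1 h2)
  -- the normalizer of `R₂` is realised inside `H`
  have hcov : ∀ n : N₂, Ctrl H R₂ (n : G) := by
    haveI := centralizer_subgroupOf_normal R₂
    set C := (Subgroup.centralizer (R₂ : Set G)).subgroupOf N₂ with hC
    obtain ⟨U, hU, hUpi, hRU⟩ := supplement_normalizer hhom hp hR₂p
    obtain ⟨W⟩ : Nonempty (Sylow p U) := inferInstance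
    obtain ⟨S, hS⟩ := (W.2.map U.subtype).exists_le_sylow
    obtain ⟨n₀, hn₀⟩ := MulAction.exists_smul_eq N₂ S V
    set U' := U.map (MulAut.conj n₀).toMonoidHom with hU'
    have hU'c : U' ⊔ C = ⊤ := by
      rw [eq_top_iff]
      intro x _
      have h1 : U ⊔ C ≤ (U' ⊔ C).comap (MulAut.conj n₀).toMonoidHom := sup_le
        (fun u hu => Subgroup.mem_sup_left ⟨u, hu, rfl⟩)
        fun c hc => Subgroup.mem_sup_right ((centralizer_subgroupOf_normal R₂).conj_mem c hc n₀)
      have h2 := h1 (hU.symm ▸ Subgroup.mem_top (n₀⁻¹ * x * n₀))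
      simpa [Subgroup.mem_comap, MulAut.conj_apply, mul_assoc] using h2
    set W' := (((W : Subgroup U).map U.subtype).map (MulAut.conj n₀).toMonoidHom) with hW'
    have hW'V : W' ≤ V := by
      rintro _ ⟨w, hw, rfl⟩
      rw [← hn₀, Sylow.coe_subgroup_smul]
      exact Subgroup.smul_mem_pointwise_smul _ (MulAut.conj n₀) _ (hS hw)
    set W'' := W'.map N₂.subtype with hW''
    have hW''H : W'' ≤ H := by
      rintro _ ⟨w, hw, rfl⟩; exact hVH w (hW'V hw)
    have hU'pi : IsPiSubgroup π (U'.map N₂.subtype) := by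
      intro q hq hd
      rw [Subgroup.card_map_of_injective N₂.subtype_injective, hU',
        Subgroup.card_map_of_injective (MulAut.conj n₀).injective] at hd
      exact hUpi q hq hd
    have hW''p : IsPGroup p W'' := ((W.2.map _).map _).map _
    have hW''c : Nat.card W'' = Nat.card (W : Subgroup U) := by
      rw [hW'', Subgroup.card_map_of_injective N₂.subtype_injective, hW',
        Subgroup.card_map_of_injective (MulAut.conj n₀).injective,
        Subgroup.card_map_of_injective U.subtype_injective]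
    have hRW : (R₂.subgroupOf N₂).subgroupOf U ≤ W := by
      haveI : (R₂.subgroupOf N₂).Normal := Subgroup.normal_in_normalizer
      haveI : ((R₂.subgroupOf N₂).subgroupOf U).Normal := inferInstance
      exact IsPGroup.le_sylow_of_normal (N := (R₂.subgroupOf N₂).subgroupOf U) ((hR₂p.comap_of_injective N₂.subtype Subtype.val_injective).comap_of_injective U.subtype Subtype.val_injective) W
    by_cases hbig : Nat.card R < Nat.card W''
    · obtain ⟨j, hj⟩ := hD.2 _ hU'pi
      have hWU : W'' ≤ U'.map N₂.subtype := Subgroup.map_mono (Subgroup.map_mono (Subgroup.map_subtype_le _))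
      obtain ⟨h, hh, he⟩ := IH W'' hW''p hW''H hbig j fun w hw => hj w (hWU hw)
      have hR₂W : R₂ ≤ W'' := by
        intro r hr
        have hn : MulAut.conj n₀⁻¹ ⟨r, Subgroup.le_normalizer hr⟩ ∈ R₂.subgroupOf N₂ :=
          (Subgroup.normal_in_normalizer (H := R₂)).conj_mem _ (show (⟨r, Subgroup.le_normalizer hr⟩ : N₂) ∈ R₂.subgroupOf N₂ from hr) _
        refine ⟨⟨r, Subgroup.le_normalizer hr⟩, ⟨_, ⟨⟨_, hRU hn⟩, hRW hn, rfl⟩, ?_⟩, rfl⟩
        simp [MulAut.conj_apply, mul_assoc]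
      have hcN : h⁻¹ * j ∈ N₂ := by
        refine Subgroup.mem_normalizer_fintype fun r hr => ?_
        have h1 : h⁻¹ * j * r * (h⁻¹ * j)⁻¹ = r := by
          calc h⁻¹ * j * r * (h⁻¹ * j)⁻¹ = h⁻¹ * (j * r * j⁻¹) * h := by group
            _ = r := by rw [← he r (hR₂W hr)]; group
        rw [h1]; exact hr
      refine covered hU'c ⟨h⁻¹ * j, hcN⟩ fun u hu => ?_
      have := H.mul_mem (H.mul_mem (H.inv_mem hh) (hj u ⟨u, hu, rfl⟩)) hh
      simpa [mul_assoc] using this
    · -- the whole Sylow subgroup centralises modulo `R₂`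
      have hWeq : ((R₂.subgroupOf N₂).subgroupOf U) = W := by
        refine Subgroup.eq_of_le_of_card_ge hRW ?_
        rw [Nat.card_congr (Subgroup.subgroupOfEquivOfLe hRU).toEquiv,
          Nat.card_congr (Subgroup.subgroupOfEquivOfLe Subgroup.le_normalizer).toEquiv, hR₂card, ← hW''c]
        exact not_lt.1 hbig
      haveI : (R₂.subgroupOf N₂).Normal := Subgroup.normal_in_normalizer
      set X := C ⊔ R₂.subgroupOf N₂ with hX
      have hXi : ¬ p ∣ X.index := by
        intro hd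
        apply W.not_dvd_index
        rw [← hWeq]
        refine hd.trans ?_
        have h1 : X ⊔ U = ⊤ := eq_top_iff.2 (hU ▸ sup_le le_sup_right (le_sup_of_le_left le_sup_left))
        rw [← Subgroup.relIndex_top_right, ← h1, Subgroup.relIndex_sup_left]
        exact Subgroup.relIndex_dvd_of_le_left U (le_sup_right : R₂.subgroupOf N₂ ≤ X)
      have hVX : (V : Subgroup N₂) ≤ X := by
        intro x hx
        rw [← QuotientGroup.eq_one_iff]
        obtain ⟨i, hi⟩ := IsPGroup.iff_orderOf.1 V.2 ⟨x, hx⟩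
        rw [← orderOf_eq_one_iff]
        refine Nat.eq_one_of_dvd_coprimes ((hpp.coprime_iff_not_dvd.2 hXi).pow_left i) ?_
          (by rw [Subgroup.index_eq_card]; exact orderOf_dvd_natCard _)
        rw [← hi, Subgroup.orderOf_mk]
        exact orderOf_map_dvd (QuotientGroup.mk' X) x
      have hfr := Sylow.normalizer_sup_eq_top' V hVX
      intro n
      refine ctrl_of_mem_sup ?_
      have hle : Subgroup.normalizer ((V : Subgroup N₂) : Set N₂) ⊔ X ≤ C ⊔ H.subgroupOf N₂ := by
        refine sup_le (fun x hx => ?_) (sup_le le_sup_left fun r hr => Subgroup.mem_sup_right (hR₂H hr))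
        obtain ⟨h, hh, he⟩ := IH ((V : Subgroup N₂).map N₂.subtype) (V.2.map _)
          (by rintro _ ⟨v, hv, rfl⟩; exact hVH v hv)
          (by rwa [Subgroup.card_map_of_injective N₂.subtype_injective]) x (by
            rintro _ ⟨v, hv, rfl⟩
            have := hVH _ ((Subgroup.mem_normalizer_iff.1 hx v).1 hv)
            simpa using this)
        have hfix : ∀ r ∈ R₂, h * r * h⁻¹ = (x : G) * r * (x : G)⁻¹ := fun r hr =>
          he r ⟨⟨r, Subgroup.le_normalizer hr⟩, hR₂V hr, rfl⟩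
        have hhN : h ∈ N₂ := Subgroup.mem_normalizer_fintype fun r hr => by
          rw [hfix r hr]; exact (Subgroup.mem_normalizer_iff.1 x.2 r).1 hr
        have hxc : (⟨h, hhN⟩ : N₂)⁻¹ * x ∈ C := by
          rw [hC, Subgroup.mem_subgroupOf]
          refine Subgroup.mem_centralizer_iff.2 fun r hr => ?_
          push_cast
          calc r * (h⁻¹ * x) = h⁻¹ * (h * r * h⁻¹) * x := by group
            _ = h⁻¹ * x * r := by rw [hfix r hr]; group
        have : x = ⟨h, hhN⟩ * ((⟨h, hhN⟩ : N₂)⁻¹ * x) := by group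
        rw [this]
        exact mul_mem (Subgroup.mem_sup_right (show (⟨h, hhN⟩ : N₂) ∈ H.subgroupOf N₂ from hh)) (Subgroup.mem_sup_left hxc)
      exact hle (hfr.symm ▸ Subgroup.mem_top n)
  -- moving any conjugate in `H` onto `R₂`
  have step : ∀ (R₁ : Subgroup G), IsPGroup p R₁ → R₁ ≤ H → Nat.card R₁ = Nat.card R →
      ∀ g : G, R₁.map (MulAut.conj g).toMonoidHom = R₂ → Ctrl H R₁ g := by
    intro R₁ hR₁ hR₁H hc g hg
    set N₁ := Subgroup.normalizer (R₁ : Set G)
    set R' := R₁.subgroupOf H with hR'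
    have hdH : p ^ (k + 1) ∣ Nat.card H := by
      rw [← Subgroup.card_mul_index H] at hmax
      exact (((hpp.coprime_iff_not_dvd.2 (not_dvd_index hD hp)).pow_left (k + 1))).dvd_of_dvd_mul_right hmax
    have hR'c : Nat.card R' = p ^ k := by
      rw [hR', Nat.card_congr (Subgroup.subgroupOfEquivOfLe hR₁H).toEquiv, hc, hk]
    set M := Subgroup.normalizer (R' : Set H)
    obtain ⟨T⟩ : Nonempty (Sylow p M) := inferInstance
    have hTgt : Nat.card R < Nat.card (T : Subgroup M) := by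
      have h1 := Sylow.prime_dvd_card_quotient_normalizer hdH hR'c
      have h2 : p ^ (k + 1) ∣ Nat.card M := by
        rw [Subgroup.card_eq_card_quotient_mul_card_subgroup (R'.subgroupOf M),
          Nat.card_congr (Subgroup.subgroupOfEquivOfLe Subgroup.le_normalizer).toEquiv, hR'c, pow_succ']
        exact Nat.mul_dvd_mul_right h1 _
      rw [T.card_eq_multiplicity, hk]
      exact Nat.pow_lt_pow_right hpp.one_lt ((hpp.pow_dvd_iff_le_factorization Nat.card_pos.ne').1 h2)
    have hR'T : R'.subgroupOf M ≤ T := by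
      haveI : (R'.subgroupOf M).Normal := Subgroup.normal_in_normalizer
      exact IsPGroup.le_sylow_of_normal (N := R'.subgroupOf M) ((hR₁.comap_of_injective H.subtype Subtype.val_injective).comap_of_injective M.subtype Subtype.val_injective) T
    set T₀ := ((T : Subgroup M).map M.subtype).map H.subtype with hT₀
    have hT₀p : IsPGroup p T₀ := (T.2.map _).map _
    have hT₀H : T₀ ≤ H := Subgroup.map_subtype_le _
    have hR₁T₀ : R₁ ≤ T₀ := fun r hr =>
      ⟨⟨r, hR₁H hr⟩, ⟨⟨⟨r, hR₁H hr⟩, Subgroup.le_normalizer (show (⟨r, hR₁H hr⟩ : H) ∈ R' from hr)⟩, hR'T hr, rfl⟩, rfl⟩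
    have hT₀N : ∀ t ∈ T₀, g * t * g⁻¹ ∈ N₂ := by
      rintro _ ⟨_, ⟨t, _, rfl⟩, rfl⟩
      refine Subgroup.mem_normalizer_fintype fun r hr => ?_
      rw [← hg] at hr ⊢
      obtain ⟨s, hs, rfl⟩ := hr
      refine ⟨_, Subgroup.mem_subgroupOf.1 ((Subgroup.mem_normalizer_iff.1 t.2 ⟨s, hR₁H hs⟩).1 hs), ?_⟩
      simp [MulAut.conj_apply, mul_assoc]
    obtain ⟨S, hS⟩ := ((hT₀p.map (MulAut.conj g).toMonoidHom).comap_of_injective N₂.subtype
      Subtype.val_injective).exists_le_sylow
    obtain ⟨n, hn⟩ := MulAction.exists_smul_eq N₂ S V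
    obtain ⟨h, hh, he⟩ := IH T₀ hT₀p hT₀H (by
      rwa [hT₀, Subgroup.card_map_of_injective H.subtype_injective,
        Subgroup.card_map_of_injective M.subtype_injective]) ((n : G) * g) (by
        intro t ht
        have h1 : (⟨g * t * g⁻¹, hT₀N t ht⟩ : N₂) ∈ (S : Subgroup N₂) := hS ⟨t, ht, rfl⟩
        have h2 := Subgroup.smul_mem_pointwise_smul _ (MulAut.conj n) _ h1
        rw [← Sylow.coe_subgroup_smul] at h2
        have h3 : MulAut.conj n • (⟨g * t * g⁻¹, hT₀N t ht⟩ : N₂) ∈ (V : Subgroup N₂) := by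
          rw [← hn]; exact h2
        have h4 := hVH _ h3
        simpa [mul_assoc] using h4)
    obtain ⟨h₃, hh₃, he₃⟩ := hcov n⁻¹
    refine ⟨h₃ * h, H.mul_mem hh₃ hh, fun r hr => ?_⟩
    have h5 : h * r * h⁻¹ = (n : G) * (g * r * g⁻¹) * (n : G)⁻¹ := by
      rw [he r (hR₁T₀ hr)]; group
    have h6 : (n : G) * (g * r * g⁻¹) * (n : G)⁻¹ ∈ R₂ :=
      (Subgroup.mem_normalizer_iff.1 n.2 _).1 (hg ▸ ⟨r, hr, rfl⟩)
    calc h₃ * h * r * (h₃ * h)⁻¹ = h₃ * (h * r * h⁻¹) * h₃⁻¹ := by group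
      _ = ((n⁻¹ : N₂) : G) * ((n : G) * (g * r * g⁻¹) * (n : G)⁻¹) * ((n⁻¹ : N₂) : G)⁻¹ := by
          rw [h5, he₃ _ h6]
      _ = g * r * g⁻¹ := by push_cast; group
  intro g hg
  obtain ⟨h₁, hh₁, he₁⟩ := step R hR hRH rfl k₀ rfl
  obtain ⟨h₂, hh₂, he₂⟩ := step (R.map (MulAut.conj g).toMonoidHom) (hR.map _)
    (by rintro _ ⟨r, hr, rfl⟩; exact hg r hr) (Subgroup.card_map_of_injective (MulAut.conj g).injective)
    (k₀ * g⁻¹) (by
      rw [Subgroup.map_map, hR₂]
      congr 1
      ext x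
      simp [MulAut.conj_apply, mul_assoc])
  refine ⟨h₂⁻¹ * h₁, H.mul_mem (H.inv_mem hh₂) hh₁, fun r hr => ?_⟩
  have h3 := he₂ (g * r * g⁻¹) ⟨r, hr, rfl⟩
  calc h₂⁻¹ * h₁ * r * (h₂⁻¹ * h₁)⁻¹ = h₂⁻¹ * (h₁ * r * h₁⁻¹) * h₂ := by group
    _ = h₂⁻¹ * (k₀ * g⁻¹ * (g * r * g⁻¹) * (k₀ * g⁻¹)⁻¹) * h₂ := by rw [he₁ r hr]; group
    _ = g * r * g⁻¹ := by rw [← h3]; group

end

end CfsgLib.DPiHomogeneous
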